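import Groth.Agent.Lib.Cyc.PP.DetOrd
import Mathlib.RingTheory.FiniteLength

/-!
# The invariant "torsion length + index of the lattice" of a finite module
-/

set_option autoImplicit false
universe u

open Module Submodule LinearMap Groth.Agent.Lib.Cyc.Retr.Idx Groth.Agent.Lib.Cyc.PP.DetOrd

namespace Groth.Agent.Lib.C1Coh29.Alg

variable {R : Type u} [CommRing R]

section pure
variable {A B C VA VB VC : Type u}
  [AddCommGroup A] [Module R A] [AddCommGroup B] [Module R B] [AddCommGroup C] [Module R C]
  [AddCommGroup VA] [Module R VA] [AddCommGroup VB] [Module R VB] [AddCommGroup VC] [Module R VC]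

/-- torsion length plus index of the image -/
noncomputable def e (g : A →ₗ[R] VA) (L : Submodule R VA) : ℤ :=
  ((Module.length R (ker g)).toNat : ℤ) + idx (range g) L

theorem e_of_subsingleton [Subsingleton VA] (g : A →ₗ[R] VA) (L : Submodule R VA) :
    e g L = ((Module.length R A).toNat : ℤ) := by
  have h : ker g = ⊤ := eq_top_iff.2 fun a _ => LinearMap.mem_ker.2 (Subsingleton.elim _ _)
  rw [e, h, Submodule.topEquiv.length_eq, Subsingleton.elim (range g) L, idx_self, add_zero]

theorem e_sub (g : A →ₗ[R] VA) {L L' : Submodule R VA} (h : Comm (range g) L)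
    (h' : Comm L L') : e g L' = e g L + idx L L' := by
  rw [e, e, ← idx_trans h h']
  ring

theorem qlen_bot' (S : Submodule R A) : qlen S ⊥ = Module.length R S := qlen_bot S

theorem e_add (iM : A →ₗ[R] B) (pM : B →ₗ[R] C) (hi : Function.Injective iM)
    (hex : Function.Exact iM pM) (hp : Function.Surjective pM)
    (iV : VA →ₗ[R] VB) (pV : VB →ₗ[R] VC) (hiV : Function.Injective iV)
    (hexV : Function.Exact iV pV)
    (gA : A →ₗ[R] VA) (gB : B →ₗ[R] VB) (gC : C →ₗ[R] VC)
    (ci : gB ∘ₗ iM = iV ∘ₗ gA) (cp : gC ∘ₗ pM = pV ∘ₗ gB)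
    (tA : Module.length R (ker gA) < ⊤) (tB : Module.length R (ker gB) < ⊤)
    (tC : Module.length R (ker gC) < ⊤)
    (LB : Submodule R VB) (hB : Comm (range gB) LB)
    (hA : Comm (range gA) (LB.comap iV)) :
    e gB LB = e gA (LB.comap iV) + e gC (LB.map pV) := by
  have ci' : ∀ a, gB (iM a) = iV (gA a) := fun a => congrArg (fun f => f a) ci
  have cp' : ∀ b, gC (pM b) = pV (gB b) := fun b => congrArg (fun f => f b) cp
  have kp : ker pM = range iM := hex.linearMap_ker_eq
  have kV : ker pV = range iV := hexV.linearMap_ker_eq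
  -- the auxiliary module
  let W : Submodule R B := (ker gC).comap pM
  let S : Submodule R B := ker gB ⊔ range iM
  have hS : S ≤ W := sup_le (fun b hb => by
      show gC (pM b) = 0
      rw [cp', show gB b = 0 from hb, map_zero]) (by
      rintro _ ⟨a, rfl⟩
      show gC (pM (iM a)) = 0
      rw [hex.apply_apply_eq_zero, map_zero])
  have w1 : qlen W S = qlen (ker gC) ((ker gB).map pM) := by
    rw [qlen_map_add hS pM]
    have h0 : qlen (W ⊓ ker pM) (S ⊓ ker pM) = 0 := qlen_of_le fun b hb =>
      ⟨le_sup_right (a := ker gB) (kp.le hb.2), hb.2⟩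
    rw [h0, zero_add, Submodule.map_comap_eq_of_surjective hp, Submodule.map_sup,
      show (range iM).map pM = ⊥ by rw [← kp]; exact (Submodule.eq_bot_iff _).2 (by rintro _ ⟨b, hb, rfl⟩; exact hb),
      sup_bot_eq]
  have hW : W.map gB = range gB ⊓ range iV := by
    ext v
    constructor
    · rintro ⟨b, hb, rfl⟩
      refine ⟨⟨b, rfl⟩, ?_⟩
      rw [← kV]
      show pV (gB b) = 0
      rw [← cp']
      exact hb
    · rintro ⟨⟨b, rfl⟩, hv⟩
      refine ⟨b, ?_, rfl⟩
      show gC (pM b) = 0
      rw [cp']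
      rw [SetLike.mem_coe, ← kV] at hv
      exact hv
  have hS' : S.map gB = (range gA).map iV := by
    rw [Submodule.map_sup, show (ker gB).map gB = ⊥ from
      (Submodule.eq_bot_iff _).2 (by rintro _ ⟨b, hb, rfl⟩; exact hb), bot_sup_eq,
      ← LinearMap.range_comp, ← LinearMap.range_comp, ci]
  have w2 : qlen W S = qlen (range gB ⊓ range iV) ((range gA).map iV) := by
    rw [qlen_map_add hS gB, hW, hS', qlen_of_le (A := W ⊓ ker gB), zero_add]
    exact fun b hb => ⟨le_sup_left (b := range iM) hb.2, hb.2⟩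
  let Λ : Submodule R VA := (range gB).comap iV
  have hΛ : range gA ≤ Λ := by
    rintro _ ⟨a, rfl⟩
    exact ⟨iM a, ci' a⟩
  have w3 : qlen W S = qlen Λ (range gA) := by
    rw [w2, ← qlen_comap iV inf_le_right, Submodule.comap_inf, Submodule.comap_map_eq_of_injective hiV]
    congr 1
    exact inf_eq_left.2 (fun v _ => ⟨v, rfl⟩)
  -- lengths of torsion
  have tB' : Module.length R (ker gB) =
      Module.length R (ker gA) + Module.length R ((ker gB).map pM) := by
    rw [← qlen_bot (ker gB), qlen_map_add bot_le pM, bot_inf_eq, Submodule.map_bot, qlen_bot, qlen_bot]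
    congr 1
    refine (LinearEquiv.length_eq ?_).trans (Submodule.equivMapOfInjective iM hi (ker gA)).length_eq.symm
    refine LinearEquiv.ofEq _ _ ?_
    ext b
    constructor
    · rintro ⟨hb, hb'⟩
      rw [SetLike.mem_coe, kp] at hb'
      obtain ⟨a, rfl⟩ := hb'
      refine ⟨a, hiV ?_, rfl⟩
      rw [map_zero, ← ci']
      exact hb
    · rintro ⟨a, ha, rfl⟩
      refine ⟨?_, hex.apply_apply_eq_zero a⟩
      show gB (iM a) = 0
      rw [ci', show gA a = 0 from ha, map_zero]
  have hle : (ker gB).map pM ≤ ker gC := by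
    rintro _ ⟨b, hb, rfl⟩
    show gC (pM b) = 0
    rw [cp', show gB b = 0 from hb, map_zero]
  have tC' : Module.length R (ker gC) =
      Module.length R ((ker gB).map pM) + qlen Λ (range gA) := by
    rw [← w3, w1, ← qlen_bot (ker gC), ← qlen_bot ((ker gB).map pM), qlen_chain hle bot_le]
  have hfin := tC
  rw [tC', ENat.add_lt_top] at hfin
  have hΛc : Comm Λ (range gA) := comm_of_le hΛ hfin.2
  -- the index
  have hsplit := idx_map_add hB pV
  have e1 : idx (range gB ⊓ ker pV) (LB ⊓ ker pV) = idx Λ (LB.comap iV) := by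
    rw [kV, ← idx_comap iV inf_le_right inf_le_right, Submodule.comap_inf, Submodule.comap_inf]
    congr 1 <;> exact inf_eq_left.2 (fun v _ => ⟨v, rfl⟩)
  have e2 : (range gB).map pV = range gC := by
    rw [← LinearMap.range_comp, ← cp, LinearMap.range_comp_of_range_eq_top _ (LinearMap.range_eq_top.2 hp)]
  rw [e1, e2, ← idx_trans hΛc hA, idx_of_le hΛ] at hsplit
  have ht1 := tB
  rw [tB', ENat.add_lt_top] at ht1
  simp only [e]
  rw [hsplit, tB', tC', ENat.toNat_add tA.ne ht1.2.ne, ENat.toNat_add hfin.1.ne hfin.2.ne]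
  push_cast
  ring

end pure

section frac

variable [IsDomain R] [IsNoetherianRing R] [Ring.KrullDimLE 1 R]
  {K : Type u} [Field K] [Algebra R K] [IsFractionRing R K]
  {V : Type u} [AddCommGroup V] [Module K V] [Module R V] [IsScalarTower R K V]

/-- A finite torsion module has finite length. -/
theorem length_lt_top {A : Type u} [AddCommGroup A] [Module R A] (S : Submodule R A) (hS : S.FG)
    (h : ∀ a ∈ S, ∃ r : R, r ≠ 0 ∧ r • a = 0) : Module.length R S < ⊤ := by
  classical
  obtain ⟨s, hs⟩ := hS
  choose r hr0 hr using fun a : s => h a.1 (hs ▸ Submodule.subset_span a.2)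
  have hle : ∀ a : s, Ideal.span {∏ b, r b} ≤ ker (LinearMap.toSpanSingleton R A a.1) := fun a => by
    rw [Ideal.span_le, Set.singleton_subset_iff, SetLike.mem_coe, LinearMap.mem_ker,
      LinearMap.toSpanSingleton_apply, ← Finset.prod_erase_mul _ _ (Finset.mem_univ a), mul_smul,
      hr, smul_zero]
  let ψ : (s → R ⧸ Ideal.span {∏ b, r b}) →ₗ[R] A :=
    LinearMap.lsum R (fun _ : s => R ⧸ Ideal.span {∏ b, r b}) R
      fun a => Submodule.liftQ _ _ (hle a)
  have hψ : S ≤ range ψ := by
    rw [← hs, Submodule.span_le]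
    intro a ha
    refine ⟨Pi.single ⟨a, ha⟩ (Submodule.Quotient.mk 1), ?_⟩
    show ψ _ = a
    rw [show ψ = LinearMap.lsum R _ R _ from rfl, LinearMap.lsum_piSingle, Submodule.liftQ_apply,
      LinearMap.toSpanSingleton_apply, one_smul]
  obtain ⟨hN, hA⟩ := isFiniteLength_iff_isNoetherian_isArtinian.1
    (isFiniteLength_quotient_span_singleton R
      (mem_nonZeroDivisors_of_ne_zero (Finset.prod_ne_zero_iff.2 fun a _ => hr0 a : (∏ b, r b) ≠ 0)))
  calc Module.length R S ≤ Module.length R (range ψ) :=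
        Module.length_le_of_injective (Submodule.inclusion hψ) (Submodule.inclusion_injective hψ)
    _ ≤ Module.length R (s → R ⧸ Ideal.span {∏ b, r b}) :=
        Module.length_le_of_surjective ψ.rangeRestrict ψ.surjective_rangeRestrict
    _ < ⊤ := Module.length_ne_top.lt_top

theorem e_basis_change [FiniteDimensional K V] {A : Type u} [AddCommGroup A] [Module R A]
    (g : A →ₗ[R] V) (hg : IsLattice K (range g)) {L : Submodule R V} (hL : IsLattice K L)
    (φ : V ≃ₗ[K] V) :
    e g (L.map (φ.toLinearMap.restrictScalars R)) =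
      e g L + CycAlg.ordFrac R K (LinearMap.det φ.toLinearMap) := by
  rw [e_sub g (comm hg hL) (comm hL (hL.map _ φ.surjective)),
    idx_eq hL _ (LinearEquiv.isUnit_det' φ).ne_zero]

end frac

end Groth.Agent.Lib.C1Coh29.Alg
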