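import Groth.Agent.Lib.C1Coh29.Sheaf
import Groth.Agent.Lib.Cyc.C1K.Gen
import Groth.Agent.Lib.Cyc.Ord
import Groth.Agent.S15981

/-!
# Torsion modules, principal divisors and the first graded piece of the coniveau filtration
-/

set_option autoImplicit false
set_option linter.style.haveILetI false
universe u

open CategoryTheory CategoryTheory.Limits AlgebraicGeometry Module Submodule LinearMap
open Groth.Agent.Lib Groth.Agent.Lib.Cyc.Retr.Idx Groth.Agent.Lib.Modules.StalkModule
  Groth.Agent.Lib.C1Coh29.Sheaf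

namespace Groth.Agent.Lib.C1Coh29.Div

noncomputable section

variable {X : Scheme.{u}} [IsNoetherian X] [IsIntegral X]

theorem eq_gen {z : X} (h : Order.coheight z = 0) : z = genericPoint X := by
  have := (Order.coheight_eq_zero.mp h)
    (Scheme.le_iff_specializes.mpr (spec_gen z) : z ≤ genericPoint X)
  exact ((Scheme.le_iff_specializes.mp this).antisymm (spec_gen z)).eq

theorem coh1 (x : P1 X) : Order.coheight x.1 = 1 := by
  have := x.2
  rw [ringKrullDim_stalk_eq_coheight] at this
  exact_mod_cast this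

theorem ne_gen (x : P1 X) : x.1 ≠ genericPoint X := fun h => by
  have h1 := coh1 x
  rw [h, Order.coheight_eq_zero.mpr fun z hz => (Scheme.le_iff_specializes.mpr (spec_gen z))] at h1
  exact zero_ne_one h1

theorem eq_of_spec (x : P1 X) {z : X} (h : z ⤳ x.1) (hz : z ≠ genericPoint X) : z = x.1 := by
  by_contra hne
  have hlt : x.1 < z := lt_of_le_not_ge (Scheme.le_iff_specializes.mpr h)
    fun hle => hne (h.antisymm (Scheme.le_iff_specializes.mp hle)).eq
  have := Order.coheight_add_one_le hlt
  rw [coh1 x] at this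
  refine hz (eq_gen ?_)
  have h2 : Order.coheight z + 1 ≤ 0 + 1 := by rwa [zero_add]
  exact nonpos_iff_eq_zero.1 ((WithTop.add_le_add_iff_right WithTop.one_ne_top).1 h2)

/-- Classes supported in codimension two. -/
def F2 (X : Scheme.{u}) : AddSubgroup (SGA6.Kcoh X) :=
  AddSubgroup.closure {c : SGA6.Kcoh X | ∃ F : X.Modules, Coh.IsCoh F ∧
    (∀ x ∈ CohB1.support F, (2 : WithBot ℕ∞) ≤ ringKrullDim (X.presheaf.stalk x)) ∧
    c = KZero.clSub (fun M : X.Modules => Coh.IsCoh M) F}

/-- Torsion coherent modules. -/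
def Tors : ObjectProperty X.Modules := fun C => Coh.IsCoh C ∧ genericPoint X ∉ CohB1.support C

/-- The lengths at points of codimension one. -/
def len (C : X.Modules) (x : P1 X) : ℕ :=
  (Module.length (X.presheaf.stalk x.1) (C.presheaf.stalk x.1)).toNat

theorem len_ne_top {C : X.Modules} (hC : Tors C) (x : P1 X) :
    Module.length (X.presheaf.stalk x.1) (C.presheaf.stalk x.1) ≠ ⊤ :=
  Cyc.SheafLen.length_ne_top hC.1 x.1 fun _ hzx hz =>
    eq_of_spec x hzx fun e => hC.2 (e ▸
      (by_contra fun h => not_subsingleton_iff_nontrivial.mpr hz (Modules.Support.not_mem_support_iff.mp h)))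

theorem len_eq_zero {C : X.Modules} (x : P1 X) (h : x.1 ∉ CohB1.support C) : len C x = 0 := by
  rw [len, Module.length_eq_zero_iff.mpr (Modules.Support.not_mem_support_iff.mp h)]
  rfl

theorem finite_len {C : X.Modules} (hC : Tors C) : (Function.support (len C)).Finite := by
  haveI := hC.1.2
  refine Set.Finite.of_finite_image (f := Subtype.val)
    ((Devissage.Dim.finite_maximal (Modules.Support.isClosed_support C)).subset ?_)
    Subtype.val_injective.injOn
  rintro _ ⟨x, hx, rfl⟩
  exact ⟨by_contra fun h => hx (len_eq_zero x h), fun z hz hzx =>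
    eq_of_spec x hzx fun e => hC.2 (e ▸ hz)⟩

/-- The class of the closure of a point of codimension one. -/
def O (x : P1 X) : SGA6.Kcoh X :=
  KZero.clSub (fun M : X.Modules => Coh.IsCoh M) (Cyc.closureStructureSheaf x.1)

open scoped Classical in
theorem len_O (y : P1 X) (x : P1 X) :
    len (Cyc.closureStructureSheaf y.1) x = if x = y then 1 else 0 := by
  classical
  split_ifs with h
  · subst h
    rw [len, Devissage.Closure.length_closureStructureSheaf]
    rfl
  · refine len_eq_zero x fun hs => h (Subtype.ext (eq_of_spec x (specializes_iff_mem_closure.mpr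
      (Devissage.Closure.support_closureStructureSheaf y.1 hs)) (ne_gen y)).symm)

theorem tors_O (y : X) (hy : y ≠ genericPoint X) : Tors (Cyc.closureStructureSheaf y) :=
  ⟨Devissage.Closure.isCoh_closureStructureSheaf y, fun hs =>
    hy ((specializes_iff_mem_closure.mpr (Devissage.Closure.support_closureStructureSheaf y hs)).antisymm
      (spec_gen y)).eq⟩

/-- Dévissage in the first step of the coniveau filtration. -/
theorem devissage {C : X.Modules} (hC : Tors C) :
    KZero.clSub (fun M : X.Modules => Coh.IsCoh M) C - (finsum fun x => len C x • O x) ∈ F2 X := by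
  classical
  let P : ObjectProperty X.Modules := fun M => Coh.IsCoh M
  let Φ : X.Modules → SGA6.Kcoh X ⧸ F2 X := fun G =>
    QuotientAddGroup.mk (KZero.clSub P G - finsum fun x => len G x • O x)
  have hfin : ∀ {G : X.Modules}, Tors G → (Function.support fun x => len G x • O x).Finite :=
    fun hG => (finite_len hG).subset fun x hx h0 => hx (show len _ x • O x = 0 by rw [h0, zero_nsmul])
  have hadd : ∀ S : ShortComplex X.Modules, S.ShortExact → Tors S.X₁ → Tors S.X₂ → Tors S.X₃ →
      Φ S.X₂ = Φ S.X₁ + Φ S.X₃ := by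
    intro S hS h₁ h₂ h₃
    have ht : (fun x => len S.X₂ x • O x) = fun x => len S.X₁ x • O x + len S.X₃ x • O x := by
      funext x
      rw [← add_nsmul, len, Cyc.SheafLen.length_additive S hS x.1,
        ENat.toNat_add (len_ne_top h₁ x) (len_ne_top h₃ x)]
      rfl
    simp only [Φ]
    rw [KRes.KSub.rel (P := P) hS h₁.1 h₂.1 h₃.1, ht, finsum_add_distrib (hfin h₁) (hfin h₃),
      ← QuotientAddGroup.mk_add]
    congr 1
    abel
  haveI := hC.1.2
  have key : KZero.clSub Tors C ∈ (KRes.KSub.lift (P := Tors) Φ hadd).ker := by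
    refine Devissage.Basic.generation Tors _
      ⟨CohB1.support C, Modules.Support.isClosed_support C⟩
      (fun K hK => ⟨hK.1, fun h => hC.2 (hK.2 h)⟩) (fun y hy => ?_) C ⟨hC.1, subset_rfl⟩
    refine ⟨_, Devissage.Closure.cohIn_closureStructureSheaf y,
      Devissage.Closure.length_closureStructureSheaf y, ?_⟩
    have hyg : y ≠ genericPoint X := fun e => hC.2 (e ▸ hy)
    rw [AddMonoidHom.mem_ker, KRes.KSub.lift_cl Φ hadd (tors_O y hyg)]
    refine (QuotientAddGroup.eq_zero_iff _).mpr ?_
    by_cases h1 : ringKrullDim (X.presheaf.stalk y) = 1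
    · rw [finsum_eq_single _ (⟨y, h1⟩ : P1 X) fun x hx => by
          rw [len_O ⟨y, h1⟩ x, if_neg hx, zero_nsmul],
        len_O ⟨y, h1⟩, if_pos rfl, one_nsmul]
      rw [show KZero.clSub P (Cyc.closureStructureSheaf y) - O ⟨y, h1⟩ = 0 from sub_self _]
      exact zero_mem _
    · have h2 : ∀ z : X, y ⤳ z → (2 : WithBot ℕ∞) ≤ ringKrullDim (X.presheaf.stalk z) := by
        intro z hyz
        rw [ringKrullDim_stalk_eq_coheight] at h1 ⊢
        have hle : Order.coheight y ≤ Order.coheight z :=
          Order.coheight_anti (Scheme.le_iff_specializes.mpr hyz)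
        have h0 : Order.coheight y ≠ 0 := fun e => hyg (eq_gen e)
        have h1' : Order.coheight y ≠ 1 := fun e => h1 (by rw [e]; rfl)
        have hh : (2 : ℕ∞) ≤ Order.coheight y := by
          generalize Order.coheight y = n at h0 h1'
          cases n using ENat.recTopCoe with
          | top => exact le_top
          | coe n =>
            have a : n ≠ 0 := fun e => h0 (by rw [e]; rfl)
            have b : n ≠ 1 := fun e => h1' (by rw [e]; rfl)
            exact_mod_cast (show 2 ≤ n by omega)
        exact WithBot.coe_le_coe.mpr (hh.trans hle)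
      rw [finsum_eq_zero_of_forall_eq_zero fun x => by
        rw [len_eq_zero x fun hs => by
          have := h2 x.1 (specializes_iff_mem_closure.mpr
            (Devissage.Closure.support_closureStructureSheaf y hs))
          rw [x.2] at this
          exact absurd this (not_le.mpr (by norm_num)), zero_nsmul], sub_zero]
      exact AddSubgroup.subset_closure ⟨_, Devissage.Closure.isCoh_closureStructureSheaf y,
        fun z hz => h2 z (specializes_iff_mem_closure.mpr
          (Devissage.Closure.support_closureStructureSheaf y hz)), rfl⟩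
  rw [AddMonoidHom.mem_ker, KRes.KSub.lift_cl Φ hadd hC] at key
  exact (QuotientAddGroup.eq_zero_iff _).mp key

theorem subsingleton_gen {C : X.Modules} (hC : Tors C) : Subsingleton (Vec C) :=
  Modules.Support.not_mem_support_iff.mp hC.2

theorem c1_tors {C : X.Modules} (hC : Tors C) :
    c1 C = QuotientAddGroup.mk (fun x => (len C x : ℤ)) := by
  haveI := subsingleton_gen hC
  refine congrArg QuotientAddGroup.mk (funext fun x => ?_)
  exact Alg.e_of_subsingleton _ _

/-- `c₁` on the Grothendieck group. -/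
def hom : SGA6.Kcoh X →+ Cl X :=
  KRes.KSub.lift (P := fun M : X.Modules => Coh.IsCoh M) c1 fun _ hS h₁ h₂ h₃ => c1_add hS h₁ h₂ h₃

theorem hom_cl {F : X.Modules} (hF : Coh.IsCoh F) :
    hom (KZero.clSub (fun M : X.Modules => Coh.IsCoh M) F) = c1 F :=
  KRes.KSub.lift_cl (P := fun M : X.Modules => Coh.IsCoh M) c1 _ hF

theorem hom_F2 {c : SGA6.Kcoh X} (hc : c ∈ F2 X) : hom c = 0 := by
  suffices h : F2 X ≤ (hom (X := X)).ker from h hc
  refine (AddSubgroup.closure_le _).mpr ?_
  rintro _ ⟨F, hF, hs, rfl⟩
  have hT : Tors F := ⟨hF, fun h => by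
    have := hs _ h
    rw [ringKrullDim_stalk_eq_coheight,
      Order.coheight_eq_zero.mpr fun z hz => (Scheme.le_iff_specializes.mpr (spec_gen z))] at this
    exact absurd this (not_le.mpr (by norm_num))⟩
  rw [SetLike.mem_coe, AddMonoidHom.mem_ker, hom_cl hF, c1_tors hT, QuotientAddGroup.eq_zero_iff]
  rw [show (fun x => (len F x : ℤ)) = 0 from funext fun x => by
    rw [len_eq_zero x fun h => by
      have := hs _ h
      rw [x.2] at this
      exact absurd this (not_le.mpr (by norm_num))]
    rfl]
  exact zero_mem _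

theorem ord_map {R S : Type u} [CommRing R] [CommRing S] (g : R →+* S) (hg : Function.Bijective g)
    (a : R) : Ring.ord S (g a) = Ring.ord R a := by
  letI : Algebra R S := g.toAlgebra
  have hs : Function.Surjective (algebraMap R S) := hg.2
  rw [Ring.ord, Ring.ord, ← Module.length_eq_of_surjective (M := S ⧸ Ideal.span {g a}) hs]
  refine (LinearEquiv.length_eq ?_).symm
  refine Submodule.Quotient.equiv _ ((Ideal.span {g a}).restrictScalars R)
    (LinearEquiv.ofBijective (Algebra.linearMap R S) hg) ?_ ≪≫ₗ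
    Submodule.Quotient.restrictScalarsEquiv R _
  ext q
  obtain ⟨b, rfl⟩ := hg.2 q
  simp only [Submodule.mem_map, Submodule.restrictScalars_mem, Ideal.mem_span_singleton']
  constructor
  · rintro ⟨_, ⟨c, rfl⟩, hc⟩
    exact ⟨g c, by rw [← hc]; exact (map_mul g c a).symm⟩
  · rintro ⟨c, hc⟩
    obtain ⟨c', rfl⟩ := hg.2 c
    exact ⟨c' * a, ⟨c', rfl⟩, (map_mul g c' a).trans hc⟩

/-- The order in terms of the residue field at the generic point. -/
theorem ordAt_residue (x : P1 X) (f : X.functionField) (hf : f ≠ 0) :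
    Cyc.ordAt x.1 (genericPoint X) (genericPoint_specializes x.1) (X.residue (genericPoint X) f) =
      CycAlg.ordFrac (X.presheaf.stalk x.1) X.functionField f := by
  set R := X.presheaf.stalk x.1
  set h := genericPoint_specializes x.1
  let mk : R →+* Cyc.LocQuot x.1 (genericPoint X) h := Ideal.Quotient.mk _
  have hinj : Function.Injective (Cyc.specMap x.1 (genericPoint X) h) :=
    (X.residue (genericPoint X)).hom.injective.comp (IsFractionRing.injective R X.functionField)
  have hmk : Function.Bijective mk := ⟨fun a b e => hinj (sub_eq_zero.mp (by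
    rw [← map_sub]; exact RingHom.mem_ker.mp (Ideal.Quotient.eq.mp e))), Ideal.Quotient.mk_surjective⟩
  let eq : R ≃+* Cyc.LocQuot x.1 (genericPoint X) h := RingEquiv.ofBijective mk hmk
  haveI : Ring.KrullDimLE 1 (Cyc.LocQuot x.1 (genericPoint X) h) :=
    Ring.krullDimLE_iff.2 (by rw [← ringKrullDim_eq_of_ringEquiv eq]; exact le_of_eq x.2)
  have hord : ∀ a : R, Ring.ord (Cyc.LocQuot x.1 (genericPoint X) h) (mk a) = Ring.ord R a :=
    ord_map mk hmk
  obtain ⟨a, b, hb, rfl⟩ := IsFractionRing.div_surjective (A := R) f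
  have hb0 : b ≠ 0 := nonZeroDivisors.ne_zero hb
  have hbK : algebraMap R X.functionField b ≠ 0 := fun e => hb0 (IsFractionRing.injective R _ (e.trans (map_zero _).symm))
  have ha0 : a ≠ 0 := fun e => hf (by rw [e, map_zero, zero_div])
  have haK : algebraMap R X.functionField a ≠ 0 := fun e => ha0 (IsFractionRing.injective R _ (e.trans (map_zero _).symm))
  have one : ∀ c : R, c ≠ 0 → Cyc.ordAt x.1 (genericPoint X) h
      (X.residue (genericPoint X) (algebraMap R X.functionField c)) =
        CycAlg.ordFrac R X.functionField (algebraMap R X.functionField c) := fun c hc => by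
    rw [Cyc.Ord.ordFrac_algebraMap R (mem_nonZeroDivisors_of_ne_zero hc), Cyc.ordAt,
      show X.residue (genericPoint X) (algebraMap R X.functionField c) =
        algebraMap (Cyc.LocQuot x.1 (genericPoint X) h) _ (mk c) from
          (Cyc.Ord.algebraMap_mk x.1 (genericPoint X) h c).symm,
      Cyc.Ord.ordFrac_algebraMap _ (mem_nonZeroDivisors_of_ne_zero fun e => hc (hmk.1 (e.trans (map_zero mk).symm))),
      hord]
  rw [div_eq_mul_inv, map_mul, map_inv₀, Cyc.ordAt,
    Cyc.Ord.ordFrac_mul _ _ _ ((map_ne_zero _).2 haK) (inv_ne_zero ((map_ne_zero _).2 hbK)),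
    Cyc.Ord.ordFrac_inv _ _ ((map_ne_zero _).2 hbK), Cyc.Ord.ordFrac_mul _ _ _ haK (inv_ne_zero hbK),
    Cyc.Ord.ordFrac_inv _ _ hbK]
  exact congrArg₂ (fun p q : ℤ => p + -q) (one a ha0) (one b hb0)

theorem latMap {R K V W : Type u} [CommRing R] [Field K] [Algebra R K] [AddCommGroup V] [Module K V]
    [Module R V] [IsScalarTower R K V] [AddCommGroup W] [Module K W] [Module R W] [IsScalarTower R K W]
    {L : Submodule R V} (hL : Cyc.PP.DetOrd.IsLattice K L) (g : V →ₗ[K] W)
    (hg : Function.Surjective g) : Cyc.PP.DetOrd.IsLattice K (L.map (g.restrictScalars R)) := by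
  refine ⟨hL.1.map _, ?_⟩
  rw [Submodule.map_coe, LinearMap.coe_restrictScalars, ← Submodule.map_span, hL.2,
    Submodule.map_top, LinearMap.range_eq_top.2 hg]

/-- A principal divisor is the difference of two cokernels with the same class. -/
theorem exists_principal (f : X.functionField) (hf : f ≠ 0) :
    ∃ A B : X.Modules, Tors A ∧ Tors B ∧
      KZero.clSub (fun M : X.Modules => Coh.IsCoh M) A = KZero.clSub (fun M : X.Modules => Coh.IsCoh M) B ∧
      ∀ x : P1 X, (len A x : ℤ) - (len B x : ℤ) =
        CycAlg.ordFrac (X.presheaf.stalk x.1) X.functionField f := by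
  classical
  set ξ := genericPoint X
  let M := Cyc.closureStructureSheaf ξ
  have hM : Coh.IsCoh M := Devissage.Closure.isCoh_closureStructureSheaf ξ
  let φ : Vec M ≃ₗ[X.functionField] Vec M := LinearEquiv.smulOfUnit (Units.mk0 f hf)
  let T : Cyc.C1K.Gen.Line ξ M :=
    { e := φ
      supp := fun y hy => absurd (spec_gen y) hy
      inj := fun _ h => Cyc.Retr.Witness.injective_specializes h }
  let J := Cyc.C1K.Gen.J T
  have hJ : Coh.IsCoh J := Cyc.C1K.Gen.isCoh_J T hM
  haveI := Cyc.C1K.Gen.mono_quot T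
  haveI := hJ.1
  haveI := hM.1
  have mk : ∀ (g : J ⟶ M) [Mono g], Function.Surjective (stalkMapₗ g ξ) →
      ∃ C : X.Modules, Tors C ∧
        KZero.clSub (fun M : X.Modules => Coh.IsCoh M) M =
          KZero.clSub (fun M : X.Modules => Coh.IsCoh M) J +
            KZero.clSub (fun M : X.Modules => Coh.IsCoh M) C ∧
        ∀ (x : P1 X) (L : Submodule (X.presheaf.stalk x.1) (Vec M)),
          Cyc.PP.DetOrd.IsLattice X.functionField L →
          Cyc.PP.DetOrd.IsLattice X.functionField (L.comap ((genMap g).restrictScalars (X.presheaf.stalk x.1))) →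
          Alg.e (gam M x.1) L =
            Alg.e (gam J x.1) (L.comap ((genMap g).restrictScalars _)) + (len C x : ℤ) := by
    intro g _ hsurj
    let S : ShortComplex X.Modules := ShortComplex.mk g (cokernel.π g) (cokernel.condition g)
    have hS : S.ShortExact :=
      { exact := ShortComplex.exact_cokernel g }
    have hst := fun x => (Modules.Stalk.shortExact_iff_stalk S).mp hS x
    have ex : ∀ x, Function.Exact (stalkMapₗ S.f x) (stalkMapₗ S.g x) := fun x =>
      (ShortComplex.ab_exact_iff_function_exact _).mp (hst x).exact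
    have hC : Coh.IsCoh S.X₃ := CohBasics.Closure.isCoh_cokernel g hJ.1 hM
    haveI hsub : Subsingleton (Vec S.X₃) := by
      refine subsingleton_of_forall_eq 0 fun c => ?_
      obtain ⟨b, hb⟩ : ∃ b, stalkMapₗ S.g ξ b = c := (hst ξ).ab_surjective_g c
      obtain ⟨a, rfl⟩ := hsurj b
      exact hb.symm.trans ((ex ξ).apply_apply_eq_zero a)
    have hT : Tors S.X₃ := ⟨hC, Modules.Support.not_mem_support_iff.mpr hsub⟩
    refine ⟨S.X₃, hT, KRes.KSub.rel (P := fun M : X.Modules => Coh.IsCoh M) hS hJ hM hC,
      fun x L hL hL' => ?_⟩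
    have key := Alg.e_add (stalkMapₗ S.f x.1) (stalkMapₗ S.g x.1) (hst x.1).ab_injective_f (ex _)
      (hst x.1).ab_surjective_g ((genMap S.f).restrictScalars _) ((genMap S.g).restrictScalars _)
      (hst ξ).ab_injective_f (ex ξ) (gam J x.1) (gam M x.1) (gam S.X₃ x.1)
      (gam_natural S.f x.1) (gam_natural S.g x.1) (ker_lt_top hJ x) (ker_lt_top hM x) (ker_lt_top hC x)
      L (Cyc.PP.DetOrd.comm (isLattice_range hM x.1) hL)
      (Cyc.PP.DetOrd.comm (isLattice_range hJ x.1) hL')
    rw [key, Alg.e_of_subsingleton (gam S.X₃ x.1)]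
    rfl
  obtain ⟨A, hA, eA, lA⟩ := mk (Cyc.C1K.Gen.incl T) (Cyc.C1K.Gen.surjective_incl_self T)
  obtain ⟨B, hB, eB', lB⟩ := mk (Cyc.C1K.Gen.quot T) (Cyc.C1K.Gen.surjective_quot_self T)
  refine ⟨A, B, hA, hB, add_left_cancel (eA.symm.trans eB'), fun x => ?_⟩
  haveI := finiteDim hM
  haveI := finiteDim hJ
  let b := Basis.ofVectorSpace X.functionField (Vec M)
  let L : Submodule (X.presheaf.stalk x.1) (Vec M) := span _ (Set.range b)
  have hL : Cyc.PP.DetOrd.IsLattice X.functionField L := Cyc.PP.DetOrd.isLattice_span b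
  let i₁ : Vec J →ₗ[X.functionField] Vec M := genMap (Cyc.C1K.Gen.incl T)
  let i₂ : Vec J →ₗ[X.functionField] Vec M := genMap (Cyc.C1K.Gen.quot T)
  have hi₁ : Function.Bijective i₁ :=
    ⟨(mono_iff_stalkMapₗ_injective _).1 inferInstance ξ, Cyc.C1K.Gen.surjective_incl_self T⟩
  let E₁ := LinearEquiv.ofBijective i₁ hi₁
  have hq : ∀ v, φ (i₂ v) = i₁ v := fun v => by
    have := Cyc.C1K.Gen.quot_stalk T (specializes_rfl (x := ξ)) v
    rw [TopCat.Presheaf.stalkSpecializes_refl] at this
    exact this
  have hφL : Cyc.PP.DetOrd.IsLattice X.functionField (L.map (φ.toLinearMap.restrictScalars (X.presheaf.stalk x.1))) :=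
    hL.map _ φ.surjective
  have c1' : L.comap (i₁.restrictScalars _) = L.map (E₁.symm.toLinearMap.restrictScalars _) := by
    ext v
    exact ⟨fun hv => ⟨i₁ v, hv, E₁.symm_apply_apply v⟩, fun ⟨w, hw, e⟩ => by
      rw [← e]; show i₁ (E₁.symm w) ∈ L; rwa [show i₁ (E₁.symm w) = w from E₁.apply_symm_apply w]⟩
  have c2' : L.comap (i₂.restrictScalars _) =
      (L.map (φ.toLinearMap.restrictScalars _)).map (E₁.symm.toLinearMap.restrictScalars _) := by
    ext v
    refine ⟨fun hv => ⟨i₁ v, ⟨i₂ v, hv, hq v⟩, E₁.symm_apply_apply v⟩, ?_⟩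
    rintro ⟨_, ⟨w, hw, rfl⟩, rfl⟩
    show i₂ _ ∈ L
    have hh : i₂ (E₁.symm (φ w)) = w := φ.injective ((hq _).trans (E₁.apply_symm_apply _))
    exact (congrArg (· ∈ L) hh).mpr hw
  have h1 : Cyc.PP.DetOrd.IsLattice X.functionField (L.comap (i₁.restrictScalars (X.presheaf.stalk x.1))) := by
    rw [c1']; exact latMap hL E₁.symm.toLinearMap E₁.symm.surjective
  have h2 : Cyc.PP.DetOrd.IsLattice X.functionField (L.comap (i₂.restrictScalars (X.presheaf.stalk x.1))) := by
    rw [c2']; exact latMap hφL E₁.symm.toLinearMap E₁.symm.surjective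
  have hidx : idx (L.comap (i₁.restrictScalars (X.presheaf.stalk x.1))) (L.comap (i₂.restrictScalars _)) =
      CycAlg.ordFrac (X.presheaf.stalk x.1) X.functionField f := by
    rw [c1', c2', idx_map_of_injective (E₁.symm.toLinearMap.restrictScalars (X.presheaf.stalk x.1)) E₁.symm.injective,
      Cyc.PP.DetOrd.idx_eq hL _ (LinearEquiv.isUnit_det' φ).ne_zero]
    congr 1
    have hr : Module.finrank X.functionField (Vec M) = 1 := by
      have := Module.length_eq_finrank X.functionField (Vec M)
      rw [Devissage.Closure.length_closureStructureSheaf ξ] at this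
      exact_mod_cast this.symm
    rw [show φ.toLinearMap = f • LinearMap.id from rfl, LinearMap.det_smul, hr, LinearMap.det_id,
      mul_one, pow_one]
  have d1 := lA x L hL h1
  have d2 := lB x L hL h2
  have d3 := Alg.e_sub (gam J x.1) (Cyc.PP.DetOrd.comm (isLattice_range hJ x.1) h1)
    (Cyc.PP.DetOrd.comm h1 h2)
  rw [hidx] at d3
  change _ = Alg.e (gam J x.1) (L.comap (i₁.restrictScalars _)) + _ at d1
  change _ = Alg.e (gam J x.1) (L.comap (i₂.restrictScalars _)) + _ at d2
  linarith

end

end Groth.Agent.Lib.C1Coh29.Div
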