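import Groth.Agent.Lib.C1Coh29.Alg
import Groth.Agent.Lib.Cyc.Retr.Additive
import Groth.Agent.Lib.Cyc.PP.StalkLocal
import Groth.Agent.Lib.IntSh43.Acyclic
import Groth.Agent.Lib.Devissage.Closure
import Groth.Agent.S5642
import Groth.Prelude.Def_KDet

/-!
# The first Chern class of a coherent module on an integral scheme, as a divisor modulo principal ones
-/

set_option autoImplicit false
set_option linter.style.haveILetI false
universe u

open CategoryTheory CategoryTheory.Limits AlgebraicGeometry Module Submodule LinearMap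
open Groth.Agent.Lib Groth.Agent.Lib.Cyc.Retr.Idx Groth.Agent.Lib.Cyc.PP.DetOrd
  Groth.Agent.Lib.Modules.StalkModule

namespace Groth.Agent.Lib.C1Coh29.Sheaf

noncomputable section

variable {X : Scheme.{u}} [IsNoetherian X] [IsIntegral X]

theorem spec_gen (x : X) : genericPoint X ⤳ x := genericPoint_specializes x

instance genModule (F : X.Modules) (x : X) :
    Module (X.presheaf.stalk x) (F.presheaf.stalk (genericPoint X)) :=
  Module.compHom _ (algebraMap (X.presheaf.stalk x) X.functionField)

abbrev Vec (F : X.Modules) : Type u := F.presheaf.stalk (genericPoint X)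

instance vecModule (F : X.Modules) : Module X.functionField (Vec F) := FlatMod.moduleStalk F (genericPoint X)

instance (F : X.Modules) (x : X) : IsScalarTower (X.presheaf.stalk x) X.functionField (Vec F) :=
  IsScalarTower.of_algebraMap_smul fun _ _ => rfl

/-- The specialisation to the generic stalk. -/
def gam (F : X.Modules) (x : X) : F.presheaf.stalk x →ₗ[X.presheaf.stalk x] Vec F where
  toFun := F.presheaf.stalkSpecializes (spec_gen x)
  map_add' := map_add _
  map_smul' r v := Cyc.C1.stalkSpecializes_smul F (spec_gen x) r v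

/-- the map of generic stalks -/
def genMap {F G : X.Modules} (φ : F ⟶ G) : Vec F →ₗ[X.functionField] Vec G :=
  stalkMapₗ φ (genericPoint X)

theorem gam_natural {F G : X.Modules} (φ : F ⟶ G) (x : X) :
    gam G x ∘ₗ stalkMapₗ φ x = (genMap φ).restrictScalars (X.presheaf.stalk x) ∘ₗ gam F x :=
  LinearMap.ext fun v => (Cyc.Retr.Additive.stalkMap_specializes φ (spec_gen x) v).symm

theorem finiteDim {F : X.Modules} (hF : Coh.IsCoh F) : FiniteDimensional X.functionField (Vec F) :=
  IntSh43.Acyclic.finite_stalk_of_isCoh hF _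

theorem germ_gen_ne_zero {U : X.Opens} {x : X} (hx : x ∈ U) (a : Γ(X, U))
    (ha : genericPoint X ∈ X.basicOpen a) : X.presheaf.germ U x hx a ≠ 0 := by
  intro h
  haveI : Nonempty U := ⟨⟨x, hx⟩⟩
  have hgU : genericPoint X ∈ U := (spec_gen x).mem_open U.2 hx
  have := congrArg (X.presheaf.stalkSpecializes (spec_gen x)) h
  rw [show X.presheaf.stalkSpecializes (spec_gen x) (X.presheaf.germ U x hx a) =
    X.presheaf.germ U _ hgU a from ConcreteCategory.congr_hom
      (TopCat.Presheaf.germ_stalkSpecializes X.presheaf hx (spec_gen x)) a, map_zero] at this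
  exact (((X.mem_basicOpen a _ hgU).1 ha).ne_zero) this

theorem isLattice_range {F : X.Modules} (hF : Coh.IsCoh F) (x : X) :
    IsLattice (R := X.presheaf.stalk x) X.functionField (range (gam F x)) := by
  haveI := hF.1
  haveI := IntSh43.Acyclic.finite_stalk_of_isCoh hF x
  refine ⟨?_, ?_⟩
  · rw [LinearMap.range_eq_map]; exact Module.Finite.fg_top.map _
  rw [eq_top_iff]
  intro v _
  obtain ⟨U, hU, hx, -⟩ := exists_isAffineOpen_mem_and_subset (x := x) (U := ⊤) trivial
  have hgU : genericPoint X ∈ U := (spec_gen x).mem_open U.2 hx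
  obtain ⟨a, t, ha, hat⟩ := StalkLoc.Basic.exists_smul_eq_germ (M := F) hU hgU v
  obtain ⟨u, hu⟩ := (X.mem_basicOpen a _ hgU).1 ha
  have hv : v = (↑u⁻¹ : X.functionField) • gam F x (F.presheaf.germ U x hx t) := by
    rw [show gam F x (F.presheaf.germ U x hx t) = F.presheaf.germ U _ hgU t from
      ConcreteCategory.congr_hom (TopCat.Presheaf.germ_stalkSpecializes F.presheaf hx (spec_gen x)) t,
      ← hat, ← hu, smul_smul, Units.inv_mul, one_smul]
  rw [hv]
  exact Submodule.smul_mem _ _ (Submodule.subset_span (LinearMap.mem_range_self _ _))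

theorem exists_kill {F : X.Modules} (hF : Coh.IsCoh F) (x : X) (v : F.presheaf.stalk x)
    (hv : gam F x v = 0) : ∃ r : X.presheaf.stalk x, r ≠ 0 ∧ r • v = 0 := by
  haveI := hF.1
  obtain ⟨U, hU, hx, -⟩ := exists_isAffineOpen_mem_and_subset (x := x) (U := ⊤) trivial
  have hgU : genericPoint X ∈ U := (spec_gen x).mem_open U.2 hx
  obtain ⟨a, t, ha, hat⟩ := StalkLoc.Basic.exists_smul_eq_germ (M := F) hU hx v
  have h0 : F.presheaf.germ U _ hgU t = 0 := by
    rw [← show gam F x (F.presheaf.germ U x hx t) = F.presheaf.germ U _ hgU t from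
      ConcreteCategory.congr_hom (TopCat.Presheaf.germ_stalkSpecializes F.presheaf hx (spec_gen x)) t,
      ← hat, map_smul, hv, smul_zero]
  obtain ⟨b, hb, hbt⟩ := (StalkLoc.Basic.germ_eq_zero_iff hU hgU t).1 h0
  refine ⟨X.presheaf.germ U x hx b * X.presheaf.germ U x hx a,
    mul_ne_zero (germ_gen_ne_zero hx b hb) (((X.mem_basicOpen a x hx).1 ha).ne_zero), ?_⟩
  rw [mul_smul, hat, ← germ_smul hx b t, hbt, map_zero]

/-- Points of codimension one. -/
abbrev P1 (X : Scheme.{u}) : Type u := {x : X // ringKrullDim (X.presheaf.stalk x) = 1}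

instance (x : P1 X) : Ring.KrullDimLE 1 (X.presheaf.stalk x.1) :=
  Ring.krullDimLE_iff.2 (le_of_eq x.2)

theorem ker_lt_top {F : X.Modules} (hF : Coh.IsCoh F) (x : P1 X) :
    Module.length (X.presheaf.stalk x.1) (ker (gam F x.1)) < ⊤ := by
  haveI := IntSh43.Acyclic.finite_stalk_of_isCoh hF x.1
  exact Alg.length_lt_top _ (IsNoetherian.noetherian _) fun a ha => exists_kill hF x.1 a ha

/-- The invariant with respect to a family of vectors at the generic point. -/
def eB {ι : Type*} (F : X.Modules) (b : ι → Vec F) (x : P1 X) : ℤ :=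
  Alg.e (gam F x.1) (Submodule.span (X.presheaf.stalk x.1) (Set.range b))

/-- Principal divisors. -/
def Prin (X : Scheme.{u}) [IsNoetherian X] [IsIntegral X] : AddSubgroup (P1 X → ℤ) where
  carrier := {d | ∃ f : X.functionField, f ≠ 0 ∧
    ∀ x : P1 X, d x = CycAlg.ordFrac (X.presheaf.stalk x.1) X.functionField f}
  zero_mem' := ⟨1, one_ne_zero, fun x => (Cyc.Ord.ordFrac_one _).symm⟩
  add_mem' := by
    rintro a b ⟨f, hf, ha⟩ ⟨g, hg, hb⟩
    exact ⟨f * g, mul_ne_zero hf hg, fun x => by
      rw [Pi.add_apply, ha, hb, Cyc.Ord.ordFrac_mul _ _ _ hf hg]⟩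
  neg_mem' := by
    rintro a ⟨f, hf, ha⟩
    exact ⟨f⁻¹, inv_ne_zero hf, fun x => by rw [Pi.neg_apply, ha, Cyc.Ord.ordFrac_inv _ _ hf]⟩

theorem eB_change {F : X.Modules} (hF : Coh.IsCoh F) {ι κ : Type*} (b : Basis ι X.functionField (Vec F))
    (b' : Basis κ X.functionField (Vec F)) :
    (eB F b' - eB F b) ∈ Prin X := by
  haveI := finiteDim hF
  haveI : Finite ι := Module.Finite.finite_basis b
  haveI : Finite κ := Module.Finite.finite_basis b'
  let φ := b.equiv b' (b.indexEquiv b')
  refine ⟨LinearMap.det φ.toLinearMap, (LinearEquiv.isUnit_det' φ).ne_zero, fun x => ?_⟩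
  have h := Alg.e_basis_change (gam F x.1) (isLattice_range hF x.1)
    (L := Submodule.span (X.presheaf.stalk x.1) (Set.range b))
    ⟨Submodule.fg_span (Set.finite_range b), by
      rw [eq_top_iff, ← b.span_eq, Submodule.span_le]
      exact fun v hv => Submodule.subset_span (Submodule.subset_span hv)⟩ φ
  rw [Submodule.map_span, ← Set.range_comp] at h
  have hr : Set.range ((φ.toLinearMap.restrictScalars (X.presheaf.stalk x.1)) ∘ b) = Set.range b' := by
    rw [show ((φ.toLinearMap.restrictScalars (X.presheaf.stalk x.1)) ∘ b) = b' ∘ (b.indexEquiv b') from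
      funext fun i => b.equiv_apply i b' _, EquivLike.range_comp]
  rw [hr] at h
  show eB F b' x - eB F b x = _
  rw [eB, eB, h]
  ring

/-- Divisors modulo principal ones. -/
abbrev Cl (X : Scheme.{u}) [IsNoetherian X] [IsIntegral X] : Type u := (P1 X → ℤ) ⧸ Prin X

/-- The class of a module. -/
def c1 (F : X.Modules) : Cl X :=
  QuotientAddGroup.mk (eB F (Basis.ofVectorSpace X.functionField (Vec F)))

theorem c1_eq {F : X.Modules} (hF : Coh.IsCoh F) {ι : Type*} (b : Basis ι X.functionField (Vec F)) :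
    c1 F = QuotientAddGroup.mk (eB F b) :=
  (QuotientAddGroup.eq.2 (by rw [neg_add_eq_sub]; exact eB_change hF _ b))

theorem c1_add {S : ShortComplex X.Modules} (hS : S.ShortExact) (h1 : Coh.IsCoh S.X₁)
    (h2 : Coh.IsCoh S.X₂) (h3 : Coh.IsCoh S.X₃) : c1 S.X₂ = c1 S.X₁ + c1 S.X₃ := by
  classical
  have hst := fun x => (Modules.Stalk.shortExact_iff_stalk S).mp hS x
  have inj : ∀ x, Function.Injective (stalkMapₗ S.f x) := fun x => (hst x).ab_injective_f
  have surj : ∀ x, Function.Surjective (stalkMapₗ S.g x) := fun x => (hst x).ab_surjective_g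
  have ex : ∀ x, Function.Exact (stalkMapₗ S.f x) (stalkMapₗ S.g x) := fun x =>
    (ShortComplex.ab_exact_iff_function_exact _).mp (hst x).exact
  let i : Vec S.X₁ →ₗ[X.functionField] Vec S.X₂ := genMap S.f
  let p : Vec S.X₂ →ₗ[X.functionField] Vec S.X₃ := genMap S.g
  have hi : Function.Injective i := inj _
  have hp : Function.Surjective p := surj _
  have hip : Function.Exact i p := ex _
  haveI := finiteDim h1
  haveI := finiteDim h2
  haveI := finiteDim h3
  obtain ⟨s, hs⟩ := p.exists_rightInverse_of_surjective (LinearMap.range_eq_top.2 hp)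
  have hs' : ∀ c, p (s c) = c := fun c => congrArg (fun f => f c) hs
  let Φ : (Vec S.X₁ × Vec S.X₃) ≃ₗ[X.functionField] Vec S.X₂ :=
    LinearEquiv.ofBijective (i.coprod s) ⟨by
      rw [injective_iff_map_eq_zero]
      rintro ⟨a, c⟩ h
      have hc := congrArg p h
      simp only [LinearMap.coprod_apply, map_add, map_zero, hip.apply_apply_eq_zero, hs',
        zero_add] at hc
      subst hc
      simp only [LinearMap.coprod_apply, map_zero, add_zero] at h
      rw [hi (h.trans (map_zero i).symm)]
      rfl, fun v => by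
      obtain ⟨a, ha⟩ := (hip (v - s (p v))).1 (by rw [map_sub, hs', sub_self])
      exact ⟨(a, p v), by rw [LinearMap.coprod_apply, ha, sub_add_cancel]⟩⟩
  let bA := Basis.ofVectorSpace X.functionField (Vec S.X₁)
  let bC := Basis.ofVectorSpace X.functionField (Vec S.X₃)
  let bB := (bA.prod bC).map Φ
  have hbB : ⇑bB = Sum.elim (i ∘ bA) (s ∘ bC) := by
    funext k
    rcases k with k | k <;> simp [bB, Φ]
  rw [c1_eq h1 bA, c1_eq h3 bC, c1_eq h2 bB, ← QuotientAddGroup.mk_add]
  congr 1
  funext x
  have hLA : (span (X.presheaf.stalk x.1) (Set.range bB)).comap (i.restrictScalars _) =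
      span (X.presheaf.stalk x.1) (Set.range bA) := by
    rw [hbB, Set.Sum.elim_range, Submodule.span_union, Set.range_comp, Set.range_comp,
      ← LinearMap.coe_restrictScalars (R := X.presheaf.stalk x.1) i,
      ← LinearMap.coe_restrictScalars (R := X.presheaf.stalk x.1) s,
      ← Submodule.map_span, ← Submodule.map_span]
    refine le_antisymm (fun a ha => ?_) fun a ha =>
      Submodule.mem_sup_left ⟨a, ha, rfl⟩
    obtain ⟨_, ⟨a', ha', rfl⟩, _, ⟨c, hc, rfl⟩, e⟩ := Submodule.mem_sup.1 ha
    simp only [LinearMap.coe_restrictScalars] at e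
    have hc0 := congrArg p e
    rw [map_add, hip.apply_apply_eq_zero, hip.apply_apply_eq_zero, hs', zero_add] at hc0
    rw [hc0, map_zero, add_zero] at e
    exact hi e ▸ ha'
  have hLC : (span (X.presheaf.stalk x.1) (Set.range bB)).map (p.restrictScalars _) =
      span (X.presheaf.stalk x.1) (Set.range bC) := by
    rw [Submodule.map_span, hbB, ← Set.range_comp]
    rw [show (⇑(p.restrictScalars (X.presheaf.stalk x.1)) ∘ Sum.elim (i ∘ bA) (s ∘ bC)) =
      Sum.elim (fun _ => 0) bC from funext fun k => by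
        rcases k with k | k
        · exact hip.apply_apply_eq_zero _
        · exact hs' _, Set.Sum.elim_range, Submodule.span_union]
    refine sup_eq_right.2 ?_
    rw [Submodule.span_le]
    rintro _ ⟨k, rfl⟩
    exact zero_mem _
  have key := Alg.e_add (stalkMapₗ S.f x.1) (stalkMapₗ S.g x.1) (inj _) (ex _) (surj _)
    (i.restrictScalars _) (p.restrictScalars _) hi hip (gam S.X₁ x.1) (gam S.X₂ x.1) (gam S.X₃ x.1)
    (gam_natural S.f x.1) (gam_natural S.g x.1) (ker_lt_top h1 x) (ker_lt_top h2 x) (ker_lt_top h3 x)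
    (span (X.presheaf.stalk x.1) (Set.range bB))
    (Cyc.PP.DetOrd.comm (isLattice_range h2 x.1) (Cyc.PP.DetOrd.isLattice_span bB))
    (by rw [hLA]; exact Cyc.PP.DetOrd.comm (isLattice_range h1 x.1) (Cyc.PP.DetOrd.isLattice_span bA))
  rw [hLA, hLC] at key
  exact key

end

end Groth.Agent.Lib.C1Coh29.Sheaf
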